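import Cfsg.Agent.H979.U33.SevenOf
import Cfsg.Agent.H175.U33.SevenConj
import Cfsg.Agent.H471.U33.Seven
import Cfsg.Agent.BM.KHAll

/-!
# S5525, box D: the 7-local part of the Baby Monster (helper979; `th_seven`: helper175, `card_seven`: helper471)
-/

set_option autoImplicit false

namespace Cfsg.Agent.H979.U33

open Subgroup Cfsg Cfsg.Agent.BabyM.Conc Cfsg.Agent.H819.U33

theorem isoB_G : Spor.IsoB G := ⟨BM.KHAll.iso.symm⟩

/-- **the facts from the Monster** -/
theorem mon : Mon where
  fin := by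
    have : Finite Spor.BabyMonster := Nat.finite_of_card_ne_zero (by rw [BM.KHAll.card_B]; norm_num)
    exact Finite.of_equiv _ BM.KHAll.iso.toEquiv
  seven := fun _ _ hx hy => H175.U33.SevenConj.conj_seven isoB_G hx hy
  card := fun _ hx => H471.U33.card_seven isoB_G hx

/-- **(D1)** -/
theorem card_u0 : Nat.card (centralizer ({g wu} : Set G)) = 564480 := mon.card_u0

/-- **(D3)** -/
theorem seven_pair {u y x : G} (h : Trip u y x) :
    ∃ k : G, k * u * k⁻¹ = g wu ∧ (k * y * k⁻¹ = g wf ∨ k * y * k⁻¹ = g wf * g [.tau]) := mon.seven_pair h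

/-- **(D4)** -/
theorem conj_f_of_seven {s v : G} (hs : orderOf s = 3) (hv : orderOf v = 7) (hc : s * v = v * s) :
    IsConj s (g wf) := mon.conj_f_of_seven hs hv hc

end Cfsg.Agent.H979.U33
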