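import Cfsg.Agent.H979.U33.Close
import Cfsg.Agent.H863.U33.Inst
import Cfsg.Agent.H264.U33.FAbs
import Cfsg.Agent.H921.U33.Asm

/-!
# S5525: the closed part with the 3-local frame (helper979)

The box F (helper264 and others) for the instance `H863.U33.tb` (helper863), and the final form: the link words and the two
enumerations are the only hypotheses.
-/

set_option autoImplicit false

namespace Cfsg.Agent.H979.U33

open Subgroup Cfsg Cfsg.Agent.BabyM.Conc Cfsg.Agent.H819.U33 Cfsg.Agent.H524.U33 Cfsg.Agent.H863.U33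

/-- `|C(y₁)| ≤ 65303470080` -/
theorem card_y1_le : Nat.card (centralizer ({g wy1} : Set G)) ≤ 65303470080 := by
  have : Fact (Nat.Prime 3) := ⟨Nat.prime_three⟩
  exact H186.U33.card_of_cube isoB_G (orderOf_eq_prime H863.U33.y_three y_ne) w9_cube

/-- **box F** -/
theorem three_pair {u a x : G} (h : Trip u a x) (hx : IsConj x (g wy1)) :
    ∃ k : G, k * x * k⁻¹ = g wy1 ∧ (k * a * k⁻¹ = eG 0 ∨ k * a * k⁻¹ = nf (g wy1) eG vB 0) := by
  have : Finite G := mon.fin
  exact H264.U33.F.three_pair tb card_y1_le h hx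

/-- `P₁` is normal in `C(y₁)` -/
theorem P_normal (k : G) (hk : k * g wy1 = g wy1 * k) : ∀ p ∈ PP (g wy1) eG, k * p * k⁻¹ ∈ PP (g wy1) eG := by
  have : Finite G := mon.fin
  exact H264.U33.F.conj_mem tb card_y1_le k hk

/-- the link words -/
structure Link (x27 c l s : G) : Prop where
  hc : c⁻¹ * g wy * c = g wy1
  hl1 : l⁻¹ * g wy1 * l = x27
  hl2 : l⁻¹ * eG 0 * l = g wf
  hs1 : s⁻¹ * nf (g wy1) eG vB 0 * s = g wy1
  hs2 : s⁻¹ * g wy1 * s ∈ PP (g wy1) eG

/-- **the final form** -/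
theorem main_of_link {x27 c l s : G} (hL : Link x27 c l s)
    (hI : ∀ h ∈ XX, Trip (g wu) (g wf) (h⁻¹ * x27 * h) → Cen (g wu) (g wf) (h⁻¹ * x27 * h))
    (hII : ∀ p ∈ PP (g wy1) eG, Trip (g wu) (g wy) (c * p * c⁻¹) → Cen (g wu) (g wy) (c * p * c⁻¹)) :
    ∀ u y x : G, Trip u y x → Cen u y x :=
  Rest.main (y1 := g wy1) (pA := eG 0) (pB := nf (g wy1) eG vB 0) (P1 := PP (g wy1) eG)
    { hF := fun h hx => three_pair h hx
      hP := P_normal
      hc := hL.hc
      hl1 := hL.hl1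
      hl2 := hL.hl2
      hs1 := hL.hs1
      hs2 := hL.hs2
      hI := hI
      hII := hII }

/-- **S5525** from the link words and the two enumerations -/
theorem result_of {x27 c l s : G} (hL : Link x27 c l s)
    (hI : ∀ h ∈ XX, Trip (g wu) (g wf) (h⁻¹ * x27 * h) → Cen (g wu) (g wf) (h⁻¹ * x27 * h))
    (hII : ∀ p ∈ PP (g wy1) eG, Trip (g wu) (g wy) (c * p * c⁻¹) → Cen (g wu) (g wy) (c * p * c⁻¹))
    {F : Type*} [Field F] [Fintype F] (hF : Fintype.card F = 9) (H : Subgroup Cfsg.Spor.BabyMonster)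
    (hH : Nonempty (↥H ≃* Cfsg.PSU 3 F 3)) : Subgroup.centralizer (H : Set Cfsg.Spor.BabyMonster) ≠ ⊥ :=
  H921.U33.of_main (main_of_link hL hI hII) hF H hH

end Cfsg.Agent.H979.U33
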