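import Cfsg.Agent.H979.U33.ElAbs
import Cfsg.Agent.H264.U33.FAbs

/-!
# The centralizer of an element of order 27 in `3^(1+8):2^(1+6).U₄(2)` (helper979)

`card_27` : for the generators `TB y e t w k n` in a finite group with `|C(y)| ≤ 65303470080`, the element
`x = k₀ k₁ t e₀` with `x^9 = y`, `(k₀ k₁ t)^9 = 1`, `[nf v₀, x] = y` has a centralizer of order 27.
-/

set_option autoImplicit false
set_option linter.unusedSectionVars false

namespace Cfsg.Agent.H979.El

open Subgroup Cfsg.Agent.H863.U33 Cfsg.Agent.H604.U33.Mat Cfsg.Agent.H604.U33.ImAbs Cfsg.Agent.H757.U33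

/-- the vector fixed by `x` on `P / ⟨y⟩` -/
def u0 : Fin 8 → ZMod 3 := ![1, 2, 2, 2, 1, 1, 0, 2]

/-- the matrix of `x` on `P / ⟨y⟩` -/
def MX : Fin 8 → Fin 8 → ZMod 3 :=
  ![![0, 0, 1, 2, 0, 0, 0, 2],
    ![0, 0, 1, 0, 0, 0, 1, 1],
    ![1, 2, 0, 0, 1, 0, 0, 0],
    ![0, 1, 0, 0, 1, 1, 0, 0],
    ![2, 1, 0, 0, 1, 0, 0, 0],
    ![0, 1, 0, 0, 2, 2, 0, 0],
    ![0, 0, 2, 1, 0, 0, 0, 2],
    ![0, 0, 1, 0, 0, 0, 2, 2]]

/-- the certificate for the fixed space -/
def RX : Fin 8 → Fin 8 → ZMod 3 :=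
  ![![0, 2, 0, 0, 2, 0, 0, 1],
    ![0, 2, 0, 0, 0, 0, 0, 1],
    ![0, 0, 2, 2, 2, 1, 2, 2],
    ![0, 0, 0, 0, 0, 0, 1, 1],
    ![0, 0, 0, 2, 0, 1, 2, 2],
    ![0, 1, 0, 2, 0, 2, 2, 1],
    ![0, 0, 0, 0, 0, 0, 0, 0],
    ![0, 0, 1, 1, 1, 2, 1, 2]]

/-- product of matrices -/
def mm (A B : Fin 8 → Fin 8 → ZMod 3) : Fin 8 → Fin 8 → ZMod 3 := fun i j => ∑ l, A i l * B l j

theorem mm_X : mm (mm (Mk 0) (Mk 1)) Mt = MX := by decide +kernel

theorem cert : ∀ i j, ∑ l, (MX i l - if i = l then 1 else 0) * RX l j = (if i = j then 1 else 0) - if i = 0 then u0 j else 0 := by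
  decide +kernel

/-- the fixed vectors -/
theorem fixed {v : Fin 8 → ZMod 3} (hv : (fun j => ∑ i, v i * MX i j) = v) : v = fun j => v 0 * u0 j := by
  have h1 : ∀ j, ∑ i, v i * ∑ l, (MX i l - if i = l then 1 else 0) * RX l j = 0 := by
    intro j
    simp only [Finset.mul_sum]
    rw [Finset.sum_comm]
    apply Finset.sum_eq_zero
    intro l _
    have h2 : ∑ i, v i * ((MX i l - if i = l then 1 else 0) * RX l j) =
        ((∑ i, v i * MX i l) - v l) * RX l j := by
      rw [sub_mul, Finset.sum_mul]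
      have h3 : v l * RX l j = ∑ i, (if i = l then v i * RX l j else 0) := by
        rw [Finset.sum_ite_eq' Finset.univ l]
        simp
      rw [h3, ← Finset.sum_sub_distrib]
      apply Finset.sum_congr rfl
      intro i _
      split_ifs <;> ring
    rw [h2, congrFun hv l, sub_self, zero_mul]
  funext j
  have h2 := h1 j
  simp only [cert] at h2
  have h3 : ∑ i, v i * ((if i = j then 1 else 0) - if i = 0 then u0 j else 0) = v j - v 0 * u0 j := by
    have h4 : ∀ i, v i * ((if i = j then 1 else 0) - if i = 0 then u0 j else 0) =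
        (if i = j then v i else 0) - if i = 0 then v i * u0 j else 0 := by
      intro i
      split_ifs <;> ring
    rw [Finset.sum_congr rfl fun i _ => h4 i, Finset.sum_sub_distrib, Finset.sum_ite_eq' Finset.univ j,
      Finset.sum_ite_eq' Finset.univ (0 : Fin 8)]
    simp
  rw [h3] at h2
  exact sub_eq_zero.1 h2

theorem mm_one : mm MX (fun i j => if i = j then 1 else 0) = MX := by decide +kernel

/-- the action of `x` on `O / U = F₂⁶` -/
def TX (m : X) : X := mu (Kw 1) (mu (Kw 0) m)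

theorem TX3 : ∀ m : X, TX (TX (TX m)) = m → m = 0 := by
  intro m hm
  have h1 : ∀ c : Fin 64, TX (TX (TX (dec c))) = dec c → (dec c : X) = 0 := by decide +kernel
  have h2 : Function.Surjective (fun c : Fin 64 => (dec c : X)) := by
    have h3 : Function.Injective (fun c : Fin 64 => (dec c : X)) := fun a b hab => dec_inj' a b hab
    exact (h3.bijective_of_nat_card_le (by rw [Nat.card_eq_fintype_card, Nat.card_eq_fintype_card]; decide +kernel)).2
  obtain ⟨c, rfl⟩ := h2 m
  exact h1 c hm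

theorem fin_arith {c : ℕ} (h1 : c ∣ 63 * 3) (h2 : c ∣ 65303470080) (h3 : 27 ∣ c) : c = 27 := by
  have h4 : c ∣ Nat.gcd (63 * 3) 65303470080 := Nat.dvd_gcd h1 h2
  have h5 : Nat.gcd (63 * 3) 65303470080 = 27 := by norm_num
  rw [h5] at h4
  exact Nat.dvd_antisymm h4 h3

section tb

variable {G : Type} [Group G] [Finite G] {y : G} {e : Fin 8 → G} {t : G} {w : Fin 6 → G} {k : Fin 2 → G} {n : G}

theorem acts_mul {s s' : G} {M M' : Fin 8 → Fin 8 → ZMod 3} (h : Acts y e s M) (h' : Acts y e s' M') :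
    Acts y e (s * s') (mm M M') := by
  intro v b
  obtain ⟨b1, h1⟩ := h v b
  obtain ⟨b2, h2⟩ := h' (fun j => ∑ i, v i * M i j) b1
  refine ⟨b2, ?_⟩
  have h3 : (s * s')⁻¹ * nf y e v b * (s * s') = s'⁻¹ * (s⁻¹ * nf y e v b * s) * s' := by group
  rw [h3, h1, h2]
  congr 1
  funext j
  simp only [mm, Finset.sum_mul, Finset.mul_sum]
  rw [Finset.sum_comm]
  apply Finset.sum_congr rfl
  intro i _
  apply Finset.sum_congr rfl
  intro l _
  ring

/-- `s` acts on `O / U` by `T` -/
def RR (U : Subgroup G) (w : Fin 6 → G) (s : G) (T : X → X) : Prop := ∀ m, (pr w (T m))⁻¹ * (s⁻¹ * pr w m * s) ∈ U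

omit [Finite G] in
theorem RR.mul {U : Subgroup G} {s s' : G} {T T' : X → X} (h : RR U w s T) (h' : RR U w s' T')
    (hU : ∀ p ∈ U, s'⁻¹ * p * s' ∈ U) : RR U w (s * s') (fun m => T' (T m)) := by
  intro m
  have h1 := U.mul_mem (h' (T m)) (hU _ (h m))
  have h2 : (pr w (T' (T m)))⁻¹ * (s'⁻¹ * pr w (T m) * s') * (s'⁻¹ * ((pr w (T m))⁻¹ * (s⁻¹ * pr w m * s)) * s') =
      (pr w (T' (T m)))⁻¹ * ((s * s')⁻¹ * pr w m * (s * s')) := by group
  rwa [h2] at h1

variable (h : TB y e t w k n)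
include h

theorem t_notin : t ∉ PP y e := by
  intro ht
  have h1 : Nat.card (PP y e) = 3 ^ 9 := (H264.U33.F.stNF h).2.2
  have h2 : t ^ 2 = 1 := by rw [pow_two, h.t2]
  have h3 : t ^ (3 ^ 9) = 1 := by
    have := pow_card_eq_one' (x := (⟨t, ht⟩ : PP y e))
    rw [h1] at this
    exact congrArg Subtype.val this
  have h4 : t = 1 := by
    have h5 : t = t ^ (3 ^ 9) := by
      have : 3 ^ 9 = 2 * 9841 + 1 := by norm_num
      rw [this, pow_succ, pow_mul, h2, one_pow, one_mul]
    rw [h5, h3]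
  have h5 := h.te 0
  rw [h4, inv_one, one_mul, mul_one] at h5
  have h6 : e 0 = nf y e (Pi.single 0 1) 0 := by
    rw [H649.U33.nf_eq, H649.U33.pw_zero, mul_one]
    simp [H649.U33.pr2, H649.U33.pw_zero, H649.U33.pw_one]
  rw [h6] at h5
  have h7 := congrFun ((H264.U33.F.stNF h).2.1 _ _ _ _ h5).1 0
  revert h7
  decide +kernel

theorem card_UU : Nat.card (UU y e t) = 2 * 3 ^ 9 := by
  have h1 := H604.U33.StIm.card_UU_le h
  have c1 : Nat.card (PP y e) = 3 ^ 9 := (H264.U33.F.stNF h).2.2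
  have h2 := relIndex_mul_relIndex (⊥ : Subgroup G) (PP y e) (UU y e t) bot_le PP_le_UU
  rw [relIndex_bot_left, relIndex_bot_left, c1] at h2
  have h3 : (PP y e).relIndex (UU y e t) ≠ 1 := by
    intro h4
    rw [relIndex_eq_one] at h4
    exact t_notin h (h4 t_mem)
  have h5 : 0 < Nat.card (UU y e t) := Nat.card_pos
  have h6 : (PP y e).relIndex (UU y e t) ≠ 0 := by
    intro h7
    rw [h7, mul_zero] at h2
    omega
  rw [c1] at h1
  have h7 : 2 ≤ (PP y e).relIndex (UU y e t) := by omega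
  have h8 : 3 ^ 9 * 2 ≤ Nat.card (UU y e t) := by
    rw [← h2]
    exact Nat.mul_le_mul_left _ h7
  omega

theorem relIndex_PU : (PP y e).relIndex (UU y e t) = 2 := by
  have c1 : Nat.card (PP y e) = 3 ^ 9 := (H264.U33.F.stNF h).2.2
  have h2 := relIndex_mul_relIndex (⊥ : Subgroup G) (PP y e) (UU y e t) bot_le PP_le_UU
  rw [relIndex_bot_left, relIndex_bot_left, c1, card_UU h] at h2
  omega

theorem relIndex_UO : (UU y e t).relIndex (OO y e t w) = 64 := by
  have c2 : Nat.card (OO y e t w) = 3 ^ 9 * 2 ^ 7 := H264.U33.F.stO h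
  have h2 := relIndex_mul_relIndex (⊥ : Subgroup G) (UU y e t) (OO y e t w) bot_le UU_le_OO
  rw [relIndex_bot_left, relIndex_bot_left, c2, card_UU h] at h2
  omega

/-- an element of `P` commuting with `t` is a power of `y` -/
theorem comm_t {q : G} (hq : q ∈ PP y e) (hqt : q * t = t * q) : ∃ b : ZMod 3, q = y ^ b.val := by
  obtain ⟨v, b, rfl⟩ := ((H264.U33.F.stNF h).1 _).1 hq
  obtain ⟨b', hb'⟩ := (H264.U33.F.stAct h).1 v b
  rw [mul_assoc, hqt, inv_mul_cancel_left] at hb'
  have h1 := ((H264.U33.F.stNF h).2.1 _ _ _ _ hb').1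
  have h2 : v = 0 := by
    funext j
    have h3 := congrFun h1 j
    have h4 : ∀ i j : Fin 8, Mt i j = if i = j then 2 else 0 := by decide +kernel
    simp only [h4] at h3
    have h5 : ∑ i, v i * (if i = j then (2 : ZMod 3) else 0) = v j * 2 := by
      have h6 : ∀ i, v i * (if i = j then (2 : ZMod 3) else 0) = if i = j then v i * 2 else 0 := by
        intro i
        split_ifs <;> ring
      rw [Finset.sum_congr rfl fun i _ => h6 i, Finset.sum_ite_eq' Finset.univ j]
      simp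
    rw [h5] at h3
    have h7 : ∀ a : ZMod 3, a = a * 2 → a = 0 := by decide
    exact h7 _ h3
  refine ⟨b, ?_⟩
  rw [h2, H649.U33.NB.nf_zero]
  rfl

theorem card_27 (hcard : Nat.card (centralizer ({y} : Set G)) ≤ 65303470080) (hx9 : (k 0 * k 1 * t * e 0) ^ 9 = y)
    (hx0 : (k 0 * k 1 * t) ^ 9 = 1)
    (hv : nf y e u0 0 * (k 0 * k 1 * t * e 0) = (k 0 * k 1 * t * e 0) * nf y e u0 0 * y) :
    orderOf (k 0 * k 1 * t * e 0) = 27 ∧ Nat.card (centralizer ({k 0 * k 1 * t * e 0} : Set G)) = 27 := by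
  obtain ⟨hC1, hC2, hC3, hC4, -⟩ := H264.U33.F.stC h hcard
  obtain ⟨hNF1, hNF2, hNF3⟩ := H264.U33.F.stNF h
  obtain ⟨hA1, -, hA3, -⟩ := H264.U33.F.stAct h
  have hnb := H649.U33.NB.of_TB h
  set x0 := k 0 * k 1 * t with hx0d
  set x := x0 * e 0 with hxd
  have hyc : ∀ p ∈ PP y e, p * y = y * p := fun p hp =>
    mem_centralizer_singleton_iff.1 (KK_le_cent h (OO_le_KK (UU_le_OO (PP_le_UU hp))))
  have hx0y : x0 * y = y * x0 :=
    (((show Commute (k 0) y from h.ky 0).mul_left (h.ky 1)).mul_left (show Commute t y from h.ty)).eq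
  have hx0t : x0 * t = t * x0 :=
    (((show Commute (k 0) t from h.kt 0).mul_left (h.kt 1)).mul_left (Commute.refl t)).eq
  have hxy : x * y = y * x := ((show Commute x0 y from hx0y).mul_left (h.ey 0)).eq
  -- the order
  have hord : orderOf x = 27 := by
    have : Fact (Nat.Prime 3) := ⟨Nat.prime_three⟩
    have h1 : orderOf x = 3 ^ (2 + 1) := by
      apply orderOf_eq_prime_pow
      · show ¬ x ^ 9 = 1
        rw [hx9]
        exact h.y1
      · show x ^ 27 = 1
        have : 27 = 9 * 3 := rfl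
        rw [this, pow_mul, hx9, h.y3]
    exact h1
  refine ⟨hord, ?_⟩
  set D : Subgroup G := centralizer {x} with hD
  have hDx : ∀ d, d ∈ D ↔ d * x = x * d := fun d => mem_centralizer_singleton_iff
  have hDy : ∀ d ∈ D, d * y = y * d := by
    intro d hd
    have h1 : Commute d (x ^ 9) := (show Commute d x from (hDx d).1 hd).pow_right 9
    rw [hx9] at h1
    exact h1
  have hDC : ∀ d ∈ D, d⁻¹ * y * d = y := by
    intro d hd
    rw [mul_assoc, ← hDy d hd, inv_mul_cancel_left]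
  have hDC' : D ≤ centralizer {y} := fun d hd => mem_centralizer_singleton_iff.2 (hDy d hd)
  -- the elements of `P`
  have hDP : ∀ q ∈ PP y e, q ∈ D → q ∈ zpowers y := by
    intro q hq hqD
    obtain ⟨v, b, rfl⟩ := (hNF1 q).1 hq
    -- the vector is fixed
    have hX : Acts y e x0 MX := by
      rw [← mm_X]
      exact acts_mul (acts_mul (hA3 0) (hA3 1)) hA1
    have hE : Acts y e (e 0) (fun i j => if i = j then 1 else 0) := by
      have h1 : ∀ j, (e 0)⁻¹ * e j * e 0 = nf y e (fun i => if j = i then 1 else 0) (fm j 0) := by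
        intro j
        have h2 : nf y e (fun i => if j = i then 1 else 0) (fm j 0) = e j * y ^ (fm j 0).val := by
          rw [H649.U33.nf_eq]
          simp only [H649.U33.pr2]
          show _ * H649.U33.pw y (fm j 0) = e j * H649.U33.pw y (fm j 0)
          congr 1
          fin_cases j <;> simp [H649.U33.pw_zero, H649.U33.pw_one]
        rw [h2, mul_assoc, inv_mul_eq_iff_eq_mul, h.ee j 0, mul_assoc]
        have h3 : Commute (e 0 * e j) (y ^ (fm j 0).val) :=
          ((show Commute (e 0) y from h.ey 0).mul_left (h.ey j)).pow_right _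
        rw [← h3.eq, mul_assoc]
      exact hnb.acts h1 (H649.U33.conj_of_comm (h.ey 0))
    have hXE : Acts y e x MX := by
      have := acts_mul hX hE
      rwa [mm_one] at this
    obtain ⟨b', hb'⟩ := hXE v b
    rw [mul_assoc, (hDx _).1 hqD, inv_mul_cancel_left] at hb'
    have hfix := fixed ((hNF2 _ _ _ _ hb').1.symm)
    have hsplit : ∀ b, nf y e u0 b = nf y e u0 0 * y ^ b.val := by
      intro b
      unfold nf
      rw [ZMod.val_zero, pow_zero, mul_one]
    have hbad : ∀ b, nf y e u0 b * x ≠ x * nf y e u0 b := by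
      intro b hb
      rw [hsplit, mul_assoc] at hb
      have h1 : y ^ b.val * x = x * y ^ b.val := ((show Commute x y from hxy).pow_right _).eq.symm
      rw [h1, ← mul_assoc, hv] at hb
      have h2 : x * nf y e u0 0 * y * y ^ b.val = (x * (nf y e u0 0 * y ^ b.val)) * y := by
        have : y * y ^ b.val = y ^ b.val * y := ((Commute.refl y).pow_right _).eq
        simp only [mul_assoc, this]
      rw [h2] at hb
      exact h.y1 (mul_eq_left.1 hb)
    rcases (by decide : ∀ a : ZMod 3, a = 0 ∨ a = 1 ∨ a = 2) (v 0) with h0 | h0 | h0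
    · have h1 : v = 0 := by
        rw [hfix]
        funext j
        simp only [h0, zero_mul, Pi.zero_apply]
      rw [h1, H649.U33.NB.nf_zero]
      exact pow_mem (mem_zpowers y) _
    · exfalso
      have h1 : v = u0 := by
        rw [hfix]
        funext j
        simp only [h0, one_mul]
      rw [h1] at hqD
      exact hbad b ((hDx _).1 hqD)
    · exfalso
      obtain ⟨c, hc⟩ := hnb.nf_inv v b
      have h1 : -v = u0 := by
        rw [hfix]
        funext j
        simp only [h0, Pi.neg_apply]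
        have : ∀ a : ZMod 3, -(2 * a) = a := by decide
        exact this _
      rw [h1] at hc
      apply hbad c
      rw [← hc]
      exact (show Commute (nf y e v b) x from (hDx _).1 hqD).inv_left.eq
  -- the action on `O / U`
  have hcomm : ∀ p ∈ OO y e t w, ∀ a ∈ OO y e t w, p⁻¹ * (a⁻¹ * p * a) ∈ UU y e t := fun p hp a ha => comm_OO h hp ha
  have hN3 : ∀ a ∈ KK y e t w k, a ∈ N3 y e t w := fun a ha => KK_le_N3 h ha
  have hkK : ∀ c, k c ∈ KK y e t w k := fun c => subset_closure (Or.inr ⟨c, rfl⟩)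
  have hW2 : ∀ a, w a * w a ∈ UU y e t := by
    intro a
    rw [h.w2]
    exact pow_mem t_mem _
  have hprO : ∀ m : X, pr w m ∈ OO y e t w := by
    intro m
    unfold pr
    exact mul_mem (mul_mem (mul_mem (mul_mem (mul_mem (pow_mem (w_mem _) _) (pow_mem (w_mem _) _))
      (pow_mem (w_mem _) _)) (pow_mem (w_mem _) _)) (pow_mem (w_mem _) _)) (pow_mem (w_mem _) _)
  have hRk : ∀ c, RR (UU y e t) w (k c) (mu (Kw c)) := by
    intro c
    refine hom_mod (O := OO y e t w) UU_le_OO hcomm w_mem hW2 (fun p hp => (mem_N3.1 (hN3 _ (hkK c))).2.2 p hp)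
      (fun p hp => (mem_N3.1 (hN3 _ (hkK c))).2.1 p hp) ?_
    intro a
    have h1 : wnf t w (Kw c a) (Ke c a) = pr w (Kw c a) * t ^ (Ke c a).val := rfl
    rw [h.kw, h1, inv_mul_cancel_left]
    exact pow_mem t_mem _
  have hRU : ∀ a ∈ UU y e t, RR (UU y e t) w a (fun m => m) := fun a ha m => hcomm _ (hprO m) a (UU_le_OO ha)
  have hUU : ∀ a ∈ UU y e t, ∀ p ∈ UU y e t, a⁻¹ * p * a ∈ UU y e t := fun a ha p hp => conj_self ha hp
  have he0U : e 0 ∈ UU y e t := PP_le_UU (e_mem 0)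
  have hR1 : RR (UU y e t) w (k 0 * k 1) (fun m => mu (Kw 1) (mu (Kw 0) m)) :=
    RR.mul (T := mu (Kw 0)) (T' := mu (Kw 1)) (hRk 0) (hRk 1) (fun p hp => (mem_N3.1 (hN3 _ (hkK 1))).2.1 p hp)
  have hR2 : RR (UU y e t) w (k 0 * k 1 * t) (fun m => mu (Kw 1) (mu (Kw 0) m)) :=
    RR.mul (T := fun m => mu (Kw 1) (mu (Kw 0) m)) (T' := fun m => m) hR1 (hRU t t_mem) (hUU t t_mem)
  have hRx : RR (UU y e t) w x TX :=
    RR.mul (T := fun m => mu (Kw 1) (mu (Kw 0) m)) (T' := fun m => m) hR2 (hRU (e 0) he0U) (hUU (e 0) he0U)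
  obtain ⟨N, hN1, hN2, hN3', hN4⟩ := core (O := OO y e t w) (U := UU y e t) (D := D) UU_le_OO
    (fun a ha => (hC3 a (Or.inl (hDC a ha))).2.2) (fun a ha => (hC3 a (Or.inl (hDC a ha))).2.1) hcomm w_mem hW2 (by
      unfold OO
      apply Subgroup.closure_mono
      rintro z (hz | hz)
      · exact Or.inl (subset_closure hz)
      · exact Or.inr hz) (relIndex_UO h) ((hDx x).2 rfl) (fun d hd => (hDx d).1 hd) hord (by
      intro p hp
      have h1 : Commute p y := mem_centralizer_singleton_iff.1 (KK_le_cent h (OO_le_KK hp))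
      rw [hx9, mul_assoc, h1.eq, inv_mul_cancel_left, inv_mul_cancel]
      exact one_mem _) hRx TX3
  -- `D ∩ U ≤ P`
  have hDU : ∀ d ∈ UU y e t, d ∈ D → d ∈ PP y e := by
    intro d hdU hdD
    by_contra hdP
    have hi2 : ((PP y e).subgroupOf (UU y e t)).index = 2 := relIndex_PU h
    have htd : t * d ∈ PP y e := by
      have h1 := (mul_mem_iff_of_index_two hi2 (a := ⟨t, t_mem⟩) (b := ⟨d, hdU⟩)).2
        ⟨fun h2 => absurd h2 (t_notin h), fun h2 => absurd h2 hdP⟩
      exact h1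
    have hdd : d * d ∈ PP y e := mul_self_mem_of_index_two hi2 ⟨d, hdU⟩
    obtain ⟨i, hi⟩ := hDP _ hdd (D.mul_mem hdD hdD)
    have hi' : y ^ i = d * d := hi
    have hdyi : d * y ^ i = y ^ i * d := (show Commute d y from hDy d hdD).zpow_right i
    have hyi3 : y ^ i * (y ^ i * y ^ i) = 1 := by
      rw [← zpow_add, ← zpow_add]
      have : i + (i + i) = (3 : ℕ) * i := by push_cast; ring
      rw [this, zpow_mul, zpow_natCast, h.y3, one_zpow]
    obtain ⟨s, hs⟩ : ∃ s, s = d * y ^ i := ⟨_, rfl⟩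
    have hss : s * s = 1 := by
      calc s * s = (d * y ^ i) * (d * y ^ i) := by rw [hs]
        _ = d * d * (y ^ i * y ^ i) := by
          rw [mul_assoc, ← mul_assoc (y ^ i) d, ← hdyi]
          simp only [mul_assoc]
        _ = 1 := by rw [← hi', hyi3]
    have hsinv : s⁻¹ = s := inv_eq_of_mul_eq_one_left hss
    have htinv : t⁻¹ = t := inv_eq_of_mul_eq_one_left h.t2
    have hyD : y ∈ D := (hDx y).2 hxy.symm
    have hsx : s * x = x * s := by
      rw [hs]
      exact (hDx _).1 (D.mul_mem hdD (D.zpow_mem hyD i))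
    obtain ⟨p, hp⟩ : ∃ p, p = t * s := ⟨_, rfl⟩
    have hpP : p ∈ PP y e := by
      rw [hp, hs, ← mul_assoc]
      exact mul_mem htd (zpow_mem y_mem i)
    have htp : t * p = s := by rw [hp, ← mul_assoc, h.t2, one_mul]
    have htpt : t * p * t⁻¹ = p⁻¹ := by
      rw [htp, hp, mul_inv_rev, hsinv]
    have hp1 : p ^ (3 ^ 9) = 1 := by
      have := pow_card_eq_one' (x := (⟨p, hpP⟩ : PP y e))
      rw [hNF3] at this
      exact congrArg Subtype.val this
    obtain ⟨a, ha⟩ : ∃ a, a = p ^ 9842 := ⟨_, rfl⟩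
    have haP : a ∈ PP y e := by rw [ha]; exact pow_mem hpP _
    have haa : a * a = p := by
      rw [ha, ← pow_add]
      have : 9842 + 9842 = 3 ^ 9 + 1 := by norm_num
      rw [this, pow_succ, hp1, one_mul]
    have hta : t * a * t⁻¹ = a⁻¹ := by
      rw [ha, ← conj_pow, htpt, inv_pow]
    have hat : a⁻¹ * t * a = s := by
      have h1 : a⁻¹ * t = t * a := by
        rw [← hta, inv_mul_cancel_right]
      rw [h1, mul_assoc, haa, htp]
    obtain ⟨x1, hx1⟩ : ∃ x1, x1 = a * x * a⁻¹ := ⟨_, rfl⟩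
    have hx1t : x1 * t = t * x1 := by
      have h1 : t = a * s * a⁻¹ := by rw [← hat]; group
      rw [hx1]
      calc a * x * a⁻¹ * t = a * x * a⁻¹ * (a * s * a⁻¹) := by rw [← h1]
        _ = a * (x * s) * a⁻¹ := by group
        _ = a * (s * x) * a⁻¹ := by rw [hsx]
        _ = (a * s * a⁻¹) * (a * x * a⁻¹) := by group
        _ = t * (a * x * a⁻¹) := by rw [← h1]
    have hx0N : x0⁻¹ * y * x0 = y := by rw [mul_assoc, ← hx0y, inv_mul_cancel_left]
    have hqP : x0⁻¹ * x1 ∈ PP y e := by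
      have h1 : x0⁻¹ * x1 = (x0⁻¹ * a * x0) * e 0 * a⁻¹ := by
        rw [hx1, hxd]
        group
      rw [h1]
      exact mul_mem (mul_mem ((hC3 x0 (Or.inl hx0N)).1 a haP) (e_mem 0)) (inv_mem haP)
    have hqt : x0⁻¹ * x1 * t = t * (x0⁻¹ * x1) :=
      ((show Commute x0 t from hx0t).inv_left.mul_left (show Commute x1 t from hx1t)).eq
    obtain ⟨b, hb⟩ := comm_t h hqP hqt
    have hx1' : x1 = x0 * y ^ b.val := by rw [← hb, mul_inv_cancel_left]
    have h9a : x1 ^ 9 = 1 := by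
      rw [hx1', (show Commute x0 (y ^ b.val) from (show Commute x0 y from hx0y).pow_right _).mul_pow, hx0, one_mul,
        ← pow_mul]
      have : b.val * 9 = 3 * (b.val * 3) := by ring
      rw [this, pow_mul, h.y3, one_pow]
    have h9b : x1 ^ 9 = y := by
      rw [hx1, conj_pow, hx9, hyc a haP, mul_inv_cancel_right]
    exact h.y1 (h9b.symm.trans h9a)
  have hNP : N ≤ zpowers y := by
    intro d hd
    have h1 := hC4 d (hDC' (hN1 hd)) (hN2 d hd)
    have h2 := hN4 d h1 ((hDx d).1 (hN1 hd))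
    exact hDP d (hDU d h2 (hN1 hd)) (hN1 hd)
  have hN3c : Nat.card N ∣ 3 := by
    have h1 : Nat.card (zpowers y) = 3 := by
      rw [Nat.card_zpowers]
      have : Fact (Nat.Prime 3) := ⟨Nat.prime_three⟩
      exact orderOf_eq_prime h.y3 h.y1
    rw [← h1]
    exact card_dvd_of_le hNP
  have h1 : Nat.card D ∣ 63 * 3 := hN3'.trans (Nat.mul_dvd_mul_left _ hN3c)
  have h2 : Nat.card D ∣ 65303470080 := by
    rw [← hC2]
    exact card_dvd_of_le hDC'
  refine fin_arith h1 h2 ?_
  rw [← hord]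
  have : orderOf (⟨x, (hDx x).2 rfl⟩ : D) ∣ Nat.card D := orderOf_dvd_natCard _
  rwa [orderOf_mk] at this

end tb

end Cfsg.Agent.H979.El
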