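import Cfsg.Agent.H979.U33.Seven
import Cfsg.Agent.H995.U33.DirFin
import Cfsg.Agent.H524.U33.Glue

/-!
# S5525: the closed part of the final assembly (helper979)

`H524.U33.main_of` with the boxes D (helper979), E (helper186), C (helper995 / helper819) plugged in; the remaining hypotheses:
F (the pairs `(x, y)`), the normality of `P₁` in `C(y₁)`, the link words, the enumerations of types I and II.
-/

set_option autoImplicit false

namespace Cfsg.Agent.H979.U33

open Cfsg Cfsg.Agent.BabyM.Conc Cfsg.Agent.H819.U33 Cfsg.Agent.H524.U33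

/-- `y₀ = f₀ τ` -/
theorem g_wy : g wy = g wf * g [.tau] := g_append _ _

/-- **box D**, in the form of `main_of` -/
theorem seven_pair' {u y x : G} (h : Trip u y x) :
    ∃ k : G, k * u * k⁻¹ = g wu ∧ (k * y * k⁻¹ = g wf ∨ k * y * k⁻¹ = g wy) := by
  rw [g_wy]
  exact seven_pair h

/-- **box E** -/
theorem x_conj {u y x : G} (h : Trip u y x) : IsConj x (g wy) :=
  H186.U33.x_conj_of_seven (fun _ _ hs ht hst => conj_f_of_seven hs ht hst) h

/-- what remains: F, the links, the enumerations -/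
structure Rest (y1 pA pB x27 c l s : G) (P1 : Subgroup G) : Prop where
  /-- F: the pairs `(x, y)` -/
  hF : ∀ {u y x : G}, Trip u y x → IsConj x y1 → ∃ k : G, k * x * k⁻¹ = y1 ∧ (k * y * k⁻¹ = pA ∨ k * y * k⁻¹ = pB)
  hP : ∀ k : G, k * y1 = y1 * k → ∀ p ∈ P1, k * p * k⁻¹ ∈ P1
  hc : c⁻¹ * g wy * c = y1
  hl1 : l⁻¹ * y1 * l = x27
  hl2 : l⁻¹ * pA * l = g wf
  hs1 : s⁻¹ * pB * s = y1
  hs2 : s⁻¹ * y1 * s ∈ P1
  /-- type I -/
  hI : ∀ h ∈ XX, Trip (g wu) (g wf) (h⁻¹ * x27 * h) → Cen (g wu) (g wf) (h⁻¹ * x27 * h)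
  /-- type II -/
  hII : ∀ p ∈ P1, Trip (g wu) (g wy) (c * p * c⁻¹) → Cen (g wu) (g wy) (c * p * c⁻¹)

/-- **the closed part** -/
theorem Rest.main {y1 pA pB x27 c l s : G} {P1 : Subgroup G} (h : Rest y1 pA pB x27 c l s P1) :
    ∀ u y x : G, Trip u y x → Cen u y x :=
  main_of seven_pair' H186.U33.not_conj x_conj h.hF h.hP h.hc h.hl1 h.hl2 h.hs1 h.hs2 dir_nat h.hI h.hII

end Cfsg.Agent.H979.U33
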