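import Cfsg.Agent.H604.U33.ImAbs

/-!
# An element of order 27 acting on a group of order 64 (helper979)

* `dvd_of_fix` : a counting lemma (Burnside);
* `hom_mod` : the action on `O / U = F₂⁶` by matrices;
* `core` : `D` acts on `O / U` of order 64, `x ∈ Z(D)` of order 27, `x^9` acts trivially, `x^3` fixes no nontrivial element. Then
  `|D|` divides `63 · |kernel|`, and the elements of `O` commuting with `x` lie in `U`.

The coordinates on `O / U` are taken from helper604's `ImAbs.im_ge`.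
-/

set_option autoImplicit false
set_option linter.unusedSectionVars false

namespace Cfsg.Agent.H979.El

open Subgroup Cfsg.Agent.H604.U33.Mat Cfsg.Agent.H604.U33.ImAbs

/-- elements outside `N` have exactly one fixed point -/
theorem dvd_of_fix {H Ω : Type*} [Group H] [Finite H] [Finite Ω] [MulAction H Ω] (N : Subgroup H)
    (hN : ∀ h ∈ N, ∀ p : Ω, h • p = p) {p0 : Ω} (h0 : ∀ h : H, h • p0 = p0) (h1 : ∀ h : H, h ∉ N → ∀ p : Ω, h • p = p → p = p0) :
    Nat.card H ∣ (Nat.card Ω - 1) * Nat.card N := by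
  classical
  have := Fintype.ofFinite H
  have := Fintype.ofFinite Ω
  have := Fintype.ofFinite (MulAction.orbitRel.Quotient H Ω)
  have hb := MulAction.sum_card_fixedBy_eq_card_orbits_mul_card_group H Ω
  have hpos : 0 < Nat.card Ω := Nat.card_pos_iff.2 ⟨⟨p0⟩, inferInstance⟩
  have hc : ∀ a : H, Fintype.card (MulAction.fixedBy Ω a) = (if a ∈ N then Nat.card Ω - 1 else 0) + 1 := by
    intro a
    split_ifs with ha
    · have e1 : MulAction.fixedBy Ω a = Set.univ := by
        ext p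
        exact ⟨fun _ => trivial, fun _ => hN a ha p⟩
      have e2 : Fintype.card (MulAction.fixedBy Ω a) = Nat.card Ω := by
        rw [← Nat.card_eq_fintype_card, e1, Nat.card_univ]
      rw [e2]
      omega
    · rw [zero_add, ← Nat.card_eq_fintype_card]
      have e1 : MulAction.fixedBy Ω a = {p0} := by
        ext p
        constructor
        · intro hp
          exact h1 a ha p hp
        · intro hp
          rw [Set.mem_singleton_iff.1 hp]
          exact h0 a
      rw [e1]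
      exact Nat.card_unique
  have hs : ∑ a : H, Fintype.card (MulAction.fixedBy Ω a) = (Nat.card Ω - 1) * Nat.card N + Nat.card H := by
    rw [Finset.sum_congr rfl fun a _ => hc a, Finset.sum_add_distrib, Finset.sum_const, Finset.card_univ, smul_eq_mul,
      mul_one, Nat.card_eq_fintype_card (α := H)]
    congr 1
    rw [← Finset.sum_filter, Finset.sum_const, smul_eq_mul, mul_comm]
    congr 1
    rw [Nat.card_eq_fintype_card, Fintype.card_subtype]
  rw [hs, ← Nat.card_eq_fintype_card (α := H)] at hb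
  have h2 : Nat.card H ∣ (Nat.card Ω - 1) * Nat.card N + Nat.card H := by
    rw [hb]
    exact Dvd.intro_left _ rfl
  exact (Nat.dvd_add_left (dvd_refl _)).1 h2

/-- the same for an invariant subset -/
theorem dvd_of_fix' {H Ω : Type*} [Group H] [Finite H] [Finite Ω] [MulAction H Ω] (S : Set Ω)
    (hS : ∀ h : H, ∀ p ∈ S, h • p ∈ S) (N : Subgroup H) (hN : ∀ h ∈ N, ∀ p ∈ S, h • p = p) {p0 : Ω} (hp0 : p0 ∈ S)
    (h0 : ∀ h : H, h • p0 = p0) (h1 : ∀ h : H, h ∉ N → ∀ p ∈ S, h • p = p → p = p0) :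
    Nat.card H ∣ (Nat.card S - 1) * Nat.card N := by
  let T : SubMulAction H Ω := ⟨S, fun h p hp => hS h p hp⟩
  exact dvd_of_fix (Ω := T) N (fun h hh p => Subtype.ext (hN h hh p.1 p.2)) (p0 := ⟨p0, hp0⟩)
    (fun h => Subtype.ext (h0 h)) (fun h hh p hp => Subtype.ext (h1 h hh p.1 p.2 (congrArg Subtype.val hp)))

section quot

variable {G : Type*} [Group G] {O U : Subgroup G}

/-- matrices act on the products -/
theorem hom_mod (hUO : U ≤ O) (hcomm : ∀ p ∈ O, ∀ a ∈ O, p⁻¹ * (a⁻¹ * p * a) ∈ U) {W : Fin 6 → G} (hWO : ∀ a, W a ∈ O)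
    (hW2 : ∀ a, W a * W a ∈ U) {s : G} (hsO : ∀ p ∈ O, s⁻¹ * p * s ∈ O) (hsU : ∀ p ∈ U, s⁻¹ * p * s ∈ U)
    {A : Fin 6 → Fin 6 → ZMod 2} (hA : ∀ a, (pr W (A a))⁻¹ * (s⁻¹ * W a * s) ∈ U) (m : X) :
    (pr W (mu A m))⁻¹ * (s⁻¹ * pr W m * s) ∈ U := by
  have hUn : ∀ p ∈ U, ∀ a ∈ O, a⁻¹ * p * a ∈ U := by
    intro p hp a ha
    have h1 := U.mul_mem hp (hcomm p (hUO hp) a ha)
    rwa [mul_inv_cancel_left] at h1
  have hn : (U.subgroupOf O).Normal := by
    constructor
    rintro ⟨x, hx⟩ hx' ⟨s, hs⟩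
    have h1 := hUn x hx' s⁻¹ (O.inv_mem hs)
    rw [inv_inv] at h1
    exact h1
  let Q := ↥O ⧸ U.subgroupOf O
  have hQc : ∀ a b : Q, a * b = b * a := by
    intro a b
    obtain ⟨a, rfl⟩ := QuotientGroup.mk_surjective a
    obtain ⟨b, rfl⟩ := QuotientGroup.mk_surjective b
    rw [← QuotientGroup.mk_mul, ← QuotientGroup.mk_mul, QuotientGroup.eq, mem_subgroupOf]
    have h1 := hcomm b b.2 a a.2
    have : ((((a * b)⁻¹ * (b * a) : ↥O)) : G) = (b : G)⁻¹ * ((a : G)⁻¹ * b * a) := by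
      push_cast
      group
    rw [this]
    exact h1
  let _ : CommGroup Q := { (inferInstance : Group Q) with mul_comm := hQc }
  let q : ↥O →* Q := QuotientGroup.mk' (U.subgroupOf O)
  have hq : ∀ p p' : ↥O, q p = q p' ↔ (p : G)⁻¹ * p' ∈ U := by
    intro p p'
    show (QuotientGroup.mk p : Q) = QuotientGroup.mk p' ↔ _
    rw [QuotientGroup.eq, mem_subgroupOf]
    rfl
  have hq1 : ∀ p : ↥O, (p : G) ∈ U → q p = 1 := by
    intro p hp
    rw [← map_one q, hq]
    push_cast
    rw [mul_one]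
    exact U.inv_mem hp
  let W' : Fin 6 → Q := fun a => q ⟨W a, hWO a⟩
  have hW' : ∀ a, W' a * W' a = 1 := by
    intro a
    rw [← map_mul]
    exact hq1 _ (hW2 a)
  have hpr : ∀ m : X, pr W m ∈ O := by
    intro m
    unfold pr
    exact O.mul_mem (O.mul_mem (O.mul_mem (O.mul_mem (O.mul_mem (O.pow_mem (hWO _) _) (O.pow_mem (hWO _) _))
      (O.pow_mem (hWO _) _)) (O.pow_mem (hWO _) _)) (O.pow_mem (hWO _) _)) (O.pow_mem (hWO _) _)
  have hprq : ∀ m : X, q ⟨pr W m, hpr m⟩ = pr W' m := by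
    intro m
    have h1 : (⟨pr W m, hpr m⟩ : ↥O) = pr (fun a => (⟨W a, hWO a⟩ : ↥O)) m := by
      apply Subtype.ext
      unfold pr
      push_cast
      rfl
    rw [h1]
    unfold pr
    simp only [map_mul, map_pow]
    rfl
  let κ : ↥O →* ↥O :=
    { toFun := fun p => ⟨s⁻¹ * p * s, hsO p p.2⟩
      map_one' := by
        apply Subtype.ext
        show s⁻¹ * 1 * s = 1
        rw [mul_one, inv_mul_cancel]
      map_mul' := by
        intro p p'
        apply Subtype.ext
        show s⁻¹ * (p * p') * s = s⁻¹ * p * s * (s⁻¹ * p' * s)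
        group }
  have hκU : U.subgroupOf O ≤ (U.subgroupOf O).comap κ := fun p hp => hsU p hp
  let κ' : Q →* Q := QuotientGroup.map _ _ κ hκU
  have h1 := map_pr hW' κ' (A := A) (by
    intro a
    show q (κ ⟨W a, hWO a⟩) = pr W' (A a)
    rw [← hprq, eq_comm, hq]
    exact hA a) m
  rw [← hprq, ← hprq] at h1
  have h2 : q (κ ⟨pr W m, hpr m⟩) = q ⟨pr W (mu A m), hpr _⟩ := h1
  rw [eq_comm, hq] at h2
  exact h2

theorem core [Finite G] {D : Subgroup G} (hUO : U ≤ O) (hDO : ∀ a ∈ D, ∀ p ∈ O, a⁻¹ * p * a ∈ O)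
    (hDU : ∀ a ∈ D, ∀ p ∈ U, a⁻¹ * p * a ∈ U) (hcomm : ∀ p ∈ O, ∀ a ∈ O, p⁻¹ * (a⁻¹ * p * a) ∈ U)
    {W : Fin 6 → G} (hWO : ∀ a, W a ∈ O) (hW2 : ∀ a, W a * W a ∈ U)
    (hgen : O ≤ closure ((U : Set G) ∪ Set.range W)) (h64 : U.relIndex O = 64)
    {x : G} (hxD : x ∈ D) (hxc : ∀ d ∈ D, d * x = x * d) (h27 : orderOf x = 27)
    (h9 : ∀ p ∈ O, p⁻¹ * ((x ^ 9)⁻¹ * p * x ^ 9) ∈ U)
    {T : X → X} (hT : ∀ m, (pr W (T m))⁻¹ * (x⁻¹ * pr W m * x) ∈ U) (hT3 : ∀ m, T (T (T m)) = m → m = 0) :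
    ∃ N : Subgroup G, N ≤ D ∧ (∀ d ∈ N, ∀ p ∈ O, p⁻¹ * (d⁻¹ * p * d) ∈ U) ∧ Nat.card D ∣ 63 * Nat.card N ∧
      ∀ p ∈ O, p * x = x * p → p ∈ U := by
  classical
  have hUn : ∀ p ∈ U, ∀ a ∈ O, a⁻¹ * p * a ∈ U := by
    intro p hp a ha
    have h1 := U.mul_mem hp (hcomm p (hUO hp) a ha)
    rwa [mul_inv_cancel_left] at h1
  have hn : (U.subgroupOf O).Normal := by
    constructor
    rintro ⟨x, hx⟩ hx' ⟨s, hs⟩
    have h1 := hUn x hx' s⁻¹ (O.inv_mem hs)
    rw [inv_inv] at h1
    exact h1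
  let Q := ↥O ⧸ U.subgroupOf O
  have hQc : ∀ a b : Q, a * b = b * a := by
    intro a b
    obtain ⟨a, rfl⟩ := QuotientGroup.mk_surjective a
    obtain ⟨b, rfl⟩ := QuotientGroup.mk_surjective b
    rw [← QuotientGroup.mk_mul, ← QuotientGroup.mk_mul, QuotientGroup.eq, mem_subgroupOf]
    have h1 := hcomm b b.2 a a.2
    have : ((((a * b)⁻¹ * (b * a) : ↥O)) : G) = (b : G)⁻¹ * ((a : G)⁻¹ * b * a) := by
      push_cast
      group
    rw [this]
    exact h1
  let _ : CommGroup Q := { (inferInstance : Group Q) with mul_comm := hQc }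
  let q : ↥O →* Q := QuotientGroup.mk' (U.subgroupOf O)
  have hq : ∀ p p' : ↥O, q p = q p' ↔ (p : G)⁻¹ * p' ∈ U := by
    intro p p'
    show (QuotientGroup.mk p : Q) = QuotientGroup.mk p' ↔ _
    rw [QuotientGroup.eq, mem_subgroupOf]
    rfl
  have hq1 : ∀ p : ↥O, (p : G) ∈ U → q p = 1 := by
    intro p hp
    rw [← map_one q, hq]
    push_cast
    rw [mul_one]
    exact U.inv_mem hp
  let W' : Fin 6 → Q := fun a => q ⟨W a, hWO a⟩
  have hW' : ∀ a, W' a * W' a = 1 := by
    intro a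
    rw [← map_mul]
    exact hq1 _ (hW2 a)
  have hpr : ∀ m : X, pr W m ∈ O := by
    intro m
    unfold pr
    exact O.mul_mem (O.mul_mem (O.mul_mem (O.mul_mem (O.mul_mem (O.pow_mem (hWO _) _) (O.pow_mem (hWO _) _))
      (O.pow_mem (hWO _) _)) (O.pow_mem (hWO _) _)) (O.pow_mem (hWO _) _)) (O.pow_mem (hWO _) _)
  have hprq : ∀ m : X, q ⟨pr W m, hpr m⟩ = pr W' m := by
    intro m
    have h1 : (⟨pr W m, hpr m⟩ : ↥O) = pr (fun a => (⟨W a, hWO a⟩ : ↥O)) m := by
      apply Subtype.ext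
      unfold pr
      push_cast
      rfl
    rw [h1]
    unfold pr
    simp only [map_mul, map_pow]
    rfl
  -- the coordinates
  let f : X → Q := fun m => pr W' m
  have hfsurj : Function.Surjective f := by
    let R : Subgroup Q := AddSubgroup.toSubgroup' (ps W' hW').range
    have hR : ∀ x : Q, x ∈ R ↔ ∃ m, pr W' m = x := by
      intro x
      constructor
      · rintro ⟨m, hm⟩
        exact ⟨m, hm⟩
      · rintro ⟨m, hm⟩
        exact ⟨m, hm⟩
    have h1 : closure ((U : Set G) ∪ Set.range W) ≤ (R.comap q).map O.subtype := by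
      rw [closure_le]
      rintro x (hx | ⟨a, rfl⟩)
      · refine ⟨⟨x, hUO hx⟩, ?_, rfl⟩
        show q ⟨x, hUO hx⟩ ∈ R
        rw [hq1 _ hx]
        exact R.one_mem
      · refine ⟨⟨W a, hWO a⟩, ?_, rfl⟩
        show W' a ∈ R
        rw [hR]
        exact ⟨Pi.single a 1, pr_single W' a⟩
    intro x
    obtain ⟨p, rfl⟩ := QuotientGroup.mk_surjective x
    obtain ⟨p', hp', hpp⟩ := h1 (hgen p.2)
    have h2 : p' = p := Subtype.ext hpp
    rw [h2] at hp'
    exact (hR _).1 hp'
  have hcardX : Nat.card X = 64 := by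
    rw [Nat.card_eq_fintype_card]
    decide +kernel
  have hcardQ : Nat.card Q = 64 := h64
  have hfbij : Function.Bijective f := hfsurj.bijective_of_nat_card_le (by rw [hcardX, hcardQ])
  have hf0 : f 0 = 1 := by
    show pr W' 0 = 1
    unfold pr
    simp only [Pi.zero_apply, ZMod.val_zero, pow_zero, mul_one]
  -- the action of `D`
  let κ : ↥D → (↥O →* ↥O) := fun a =>
    { toFun := fun p => ⟨(a : G) * p * (a : G)⁻¹, by
        have h := hDO (a : G)⁻¹ (D.inv_mem a.2) p p.2
        rwa [inv_inv] at h⟩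
      map_one' := by
        apply Subtype.ext
        show (a : G) * 1 * (a : G)⁻¹ = 1
        rw [mul_one, mul_inv_cancel]
      map_mul' := by
        intro p p'
        apply Subtype.ext
        show (a : G) * (p * p') * (a : G)⁻¹ = (a : G) * p * (a : G)⁻¹ * ((a : G) * p' * (a : G)⁻¹)
        group }
  have hκU : ∀ a : ↥D, U.subgroupOf O ≤ (U.subgroupOf O).comap (κ a) := by
    intro a p hp
    have h := hDU (a : G)⁻¹ (D.inv_mem a.2) p hp
    rw [inv_inv] at h
    exact h
  let κ' : ↥D → (Q →* Q) := fun a => QuotientGroup.map _ _ (κ a) (hκU a)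
  let act : MulAction ↥D Q :=
    { smul := fun a x => κ' a x
      one_smul := by
        intro x
        obtain ⟨p, rfl⟩ := QuotientGroup.mk_surjective x
        show q (κ 1 p) = q p
        congr 1
        apply Subtype.ext
        show (1 : G) * p * (1 : G)⁻¹ = p
        rw [one_mul, inv_one, mul_one]
      mul_smul := by
        intro a b x
        obtain ⟨p, rfl⟩ := QuotientGroup.mk_surjective x
        show q (κ (a * b) p) = q (κ a (κ b p))
        congr 1
        apply Subtype.ext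
        show ((a : G) * b) * p * ((a : G) * b)⁻¹ = (a : G) * (b * p * (b : G)⁻¹) * (a : G)⁻¹
        group }
  have hmul : ∀ (a : ↥D) (r s : Q), a • (r * s) = a • r * a • s := fun a r s => map_mul (κ' a) r s
  have hone : ∀ a : ↥D, a • (1 : Q) = 1 := fun a => map_one (κ' a)
  -- fixed points
  have hfix : ∀ (a : ↥D) (p : ↥O), a⁻¹ • q p = q p ↔ (p : G)⁻¹ * ((a : G)⁻¹ * p * a) ∈ U := by
    intro a p
    have h1 : a⁻¹ • q p = q (κ a⁻¹ p) := rfl
    rw [h1, eq_comm, hq]
    have h2 : ((κ a⁻¹ p : ↥O) : G) = (a : G)⁻¹ * p * ((a : G)⁻¹)⁻¹ := rfl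
    rw [h2, inv_inv]
  have hfix' : ∀ (a : ↥D) (r : Q), a⁻¹ • r = r ↔ a • r = r := by
    intro a r
    rw [inv_smul_eq_iff, eq_comm]
  let x' : ↥D := ⟨x, hxD⟩
  have hxT : ∀ m, x'⁻¹ • f m = f (T m) := by
    intro m
    show x'⁻¹ • pr W' m = pr W' (T m)
    rw [← hprq, ← hprq]
    have h1 : x'⁻¹ • q ⟨pr W m, hpr m⟩ = q (κ x'⁻¹ ⟨pr W m, hpr m⟩) := rfl
    rw [h1, eq_comm, hq]
    have h2 : ((κ x'⁻¹ ⟨pr W m, hpr m⟩ : ↥O) : G) = x⁻¹ * pr W m * (x⁻¹)⁻¹ := rfl
    rw [h2, inv_inv]
    exact hT m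
  have hx3 : ∀ r : Q, x' ^ 3 • r = r → r = 1 := by
    intro r hr
    obtain ⟨m, rfl⟩ := hfsurj r
    have h1 : (x' ^ 3)⁻¹ • f m = f m := (hfix' _ _).2 hr
    have h2 : (x' ^ 3)⁻¹ = x'⁻¹ * (x'⁻¹ * x'⁻¹) := by group
    rw [h2, mul_smul, mul_smul, hxT, hxT, hxT] at h1
    rw [hT3 m (hfbij.1 h1)]
    exact hf0
  have hx9 : ∀ r : Q, x' ^ 9 • r = r := by
    intro r
    obtain ⟨p, rfl⟩ := QuotientGroup.mk_surjective r
    rw [← hfix']
    exact (hfix (x' ^ 9) p).2 (h9 p p.2)
  have hcx : ∀ d : ↥D, d * x' = x' * d := fun d => Subtype.ext (hxc d d.2)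
  -- an element with a nontrivial fixed point acts trivially
  have key : ∀ d : ↥D, ∀ r : Q, d • r = r → r ≠ 1 → ∀ s : Q, d • s = s := by
    intro d r hr hr1
    let F : Subgroup Q :=
      { carrier := {s | d • s = s}
        one_mem' := hone d
        mul_mem' := by
          intro a b ha hb
          show d • (a * b) = a * b
          rw [hmul, show d • a = a from ha, show d • b = b from hb]
        inv_mem' := by
          intro a ha
          show d • a⁻¹ = a⁻¹
          have h1 := hmul d a⁻¹ a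
          rw [inv_mul_cancel, hone, show d • a = a from ha] at h1
          exact eq_inv_of_mul_eq_one_left h1.symm }
    have hF : ∀ s, s ∈ F ↔ d • s = s := fun s => Iff.rfl
    have hcardx : Nat.card ↥(zpowers x') = 27 := by
      rw [Nat.card_zpowers, ← h27]
      exact orderOf_mk x hxD
    have hcardx9 : Nat.card ↥((zpowers (x' ^ 9)).subgroupOf (zpowers x')) = 3 := by
      rw [Nat.card_congr (subgroupOfEquivOfLe (zpowers_le.2 (pow_mem (mem_zpowers x') 9))).toEquiv, Nat.card_zpowers,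
        orderOf_pow, orderOf_mk x hxD, h27]
      norm_num
    have h1 : Nat.card ↥(zpowers x') ∣ (Nat.card (F : Set Q) - 1) * Nat.card ↥((zpowers (x' ^ 9)).subgroupOf (zpowers x')) := by
      refine dvd_of_fix' (H := ↥(zpowers x')) (F : Set Q) ?_ _ ?_ (p0 := 1) F.one_mem ?_ ?_
      · rintro ⟨h, n, rfl⟩ s hs
        show d • ((x' ^ n) • s) = (x' ^ n) • s
        have hc : d * x' ^ n = x' ^ n * d := (show Commute d x' from hcx d).zpow_right n
        rw [← mul_smul, hc, mul_smul, show d • s = s from hs]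
      · rintro ⟨h, hh⟩ hh9 s _
        have h2 : h ∈ zpowers (x' ^ 9) := hh9
        obtain ⟨n, rfl⟩ := h2
        show ((x' ^ 9) ^ n) • s = s
        have h3 : x' ^ 9 ∈ MulAction.stabilizer ↥D s := hx9 s
        exact zpow_mem h3 n
      · intro h
        exact hone _
      · rintro ⟨h, hh⟩ hh9 s _ hs
        obtain ⟨n, rfl⟩ := hh
        have h2 : x' ^ n ∈ MulAction.stabilizer ↥D s := hs
        have h3 : x' ^ (9 : ℤ) ∈ MulAction.stabilizer ↥D s := by
          have := hx9 s
          rw [← zpow_natCast] at this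
          exact this
        -- `9 ∤ n`
        have h4 : ¬ (9 : ℤ) ∣ n := by
          rintro ⟨j, rfl⟩
          apply hh9
          show x' ^ (9 * j) ∈ zpowers (x' ^ 9)
          rw [zpow_mul]
          exact ⟨j, by simp⟩
        apply hx3
        -- the gcd
        have h5 : ((Int.gcd n 9 : ℕ) : ℤ) = n * Int.gcdA n 9 + 9 * Int.gcdB n 9 := Int.gcd_eq_gcd_ab n 9
        have h6 : x' ^ (Int.gcd n 9) ∈ MulAction.stabilizer ↥D s := by
          rw [← zpow_natCast, h5, zpow_add, zpow_mul, zpow_mul]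
          exact mul_mem (zpow_mem h2 _) (zpow_mem h3 _)
        have h7 : Int.gcd n 9 ∣ 9 := by
          have := Int.gcd_dvd_right (a := n) (b := 9)
          exact_mod_cast this
        have h8 : Int.gcd n 9 ∣ 3 := by
          have h9' : Int.gcd n 9 ≤ 9 := Nat.le_of_dvd (by norm_num) h7
          have h10 : Int.gcd n 9 ≠ 9 := by
            intro h11
            apply h4
            have := Int.gcd_dvd_left (a := n) (b := 9)
            rw [h11] at this
            exact_mod_cast this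
          have h12 : Int.gcd n 9 = 1 ∨ Int.gcd n 9 = 3 ∨ Int.gcd n 9 = 9 := by
            have h14 : Int.gcd n 9 ∣ 3 ^ 2 := h7
            obtain ⟨k, hk, hk'⟩ := (Nat.dvd_prime_pow Nat.prime_three).1 h14
            interval_cases k
            · left; rw [hk']; norm_num
            · right; left; rw [hk']; norm_num
            · right; right; rw [hk']; norm_num
          rcases h12 with h | h | h
          · rw [h]; norm_num
          · rw [h]
          · exact absurd h h10
        obtain ⟨j, hj⟩ := h8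
        have h13 : x' ^ 3 ∈ MulAction.stabilizer ↥D s := by
          rw [hj, pow_mul]
          exact pow_mem h6 j
        exact h13
    rw [hcardx, hcardx9] at h1
    have h2 : Nat.card (F : Set Q) ∣ 64 := by
      rw [← hcardQ]
      exact F.card_subgroup_dvd_card
    have h3 : 9 ∣ Nat.card (F : Set Q) - 1 := by
      obtain ⟨c, hc⟩ := h1
      exact ⟨c, by omega⟩
    have h4 : 1 < Nat.card ↥F := by
      rw [Subgroup.one_lt_card_iff_ne_bot]
      intro h
      apply hr1
      have : r ∈ F := hr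
      rw [h] at this
      exact mem_bot.1 this
    have h5 : Nat.card ↥F = 64 := by
      have h6 : Nat.card ↥F ∣ 2 ^ 6 := h2
      obtain ⟨j, hj, hj'⟩ := (Nat.dvd_prime_pow Nat.prime_two).1 h6
      have h7 : 9 ∣ Nat.card ↥F - 1 := h3
      rw [hj'] at h7 h4 ⊢
      interval_cases j <;> revert h7 h4 <;> decide
    have h6 : F = ⊤ := by
      apply Subgroup.eq_top_of_card_eq
      rw [h5, hcardQ]
    intro s
    have : s ∈ F := by rw [h6]; exact mem_top s
    exact this
  -- the kernel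
  let N2 : Subgroup ↥D := (MulAction.toPermHom ↥D Q).ker
  have hN2 : ∀ d : ↥D, d ∈ N2 ↔ ∀ s : Q, d • s = s := by
    intro d
    rw [MonoidHom.mem_ker]
    constructor
    · intro h s
      have := congrArg (fun σ : Equiv.Perm Q => σ s) h
      exact this
    · intro h
      apply Equiv.ext
      intro s
      exact h s
  have hfin := dvd_of_fix (H := ↥D) (Ω := Q) N2 (fun h hh => (hN2 h).1 hh) (p0 := 1) hone (by
    intro h hh r hr
    by_contra hr1
    exact hh ((hN2 h).2 (key h r hr hr1)))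
  rw [hcardQ] at hfin
  refine ⟨N2.map D.subtype, ?_, ?_, ?_, ?_⟩
  · rintro _ ⟨d, -, rfl⟩
    exact d.2
  · rintro _ ⟨d, hd, rfl⟩ p hp
    have h1 := (hN2 d).1 hd (q ⟨p, hp⟩)
    rw [← hfix', hfix] at h1
    exact h1
  · rw [Nat.card_congr (N2.equivMapOfInjective D.subtype D.subtype_injective).toEquiv.symm]
    exact hfin
  · intro p hp hpx
    have h1 : q ⟨p, hp⟩ = 1 := by
      apply hx3
      rw [← hfix', hfix]
      have h2 : Commute p (x ^ 3) := (show Commute p x from hpx).pow_right 3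
      have h3 : (p : G)⁻¹ * ((x ^ 3)⁻¹ * p * x ^ 3) = 1 := by
        rw [mul_assoc, h2.eq, inv_mul_cancel_left, inv_mul_cancel]
      show (p : G)⁻¹ * ((x ^ 3)⁻¹ * p * x ^ 3) ∈ U
      rw [h3]
      exact U.one_mem
    rw [← map_one q, eq_comm, hq] at h1
    have h2 : ((1 : ↥O) : G)⁻¹ * p = p := by simp
    rwa [h2] at h1

end quot

end Cfsg.Agent.H979.El
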