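import Cfsg.Agent.H979.U33.ElChkA
import Cfsg.Agent.H979.U33.ElChkB
import Cfsg.Agent.H979.U33.ElChkC

/-!
# An element of order 27 of the Baby Monster: kernel checks (helper979)

`x = k₀ k₁ t e₀` in the 3-local subgroup `C(y₁)` of `H863.U33`: `x^9 = y₁`, `(k₀ k₁ t)^9 = 1`, `[nf v₀, x] = y₁`
(one check in each of the three modules).
-/
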