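import Cfsg.Agent.H819.U33.Base

/-!
# S5525: a word of the 4371-dimensional model is not trivial (helper979)

`ne_one` : the word moves the vector `x` at the lane `i`.
-/

set_option autoImplicit false

namespace Cfsg.Agent.H979.U33

open Cfsg.Agent.Monster.VecEngine Cfsg.Agent.Monster.VecSpace Cfsg.Agent.BabyM.Conc Cfsg.Agent.BabyM.Inst
open Cfsg.Agent.BabyM.Model
open Cfsg.Agent.H819.U33

/-- the word moves the vector `x` at the lane `i` -/
noncomputable def neChk (w : List Ltr) (x : Pl) (i : ℕ) : Bool :=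
  Nat.testBit U i && runL (w.map Ltr.prog) x fun y => !(decide (val y i = val x i))

theorem runW {w : List Ltr} {x : Pl} {k : Pl → Bool} (h : runL (w.map Ltr.prog) x k = true) :
    ∃ y, vecU ℚ U y = W w (vecU ℚ U x) ∧ k y = true := by
  obtain ⟨y, hy, hk⟩ := runL_sound ℚ two_ne_zero (w.map Ltr.prog)
    (fun P hP => ((good_progs w) P hP).pres.ok) x k h
  refine ⟨y, ?_, hk⟩
  rw [W_apply, vecU_eq, vecU_eq, ← res_semL ℚ (fun P hP => ((good_progs w) P hP).pres), hy]

theorem ne_one {w : List Ltr} {x : Pl} {i : ℕ} (h : neChk w x i = true) : g w ≠ 1 := by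
  intro h1
  rw [neChk, Bool.and_eq_true] at h
  obtain ⟨y, hy, hk⟩ := runW h.2
  have h2 : W w = 1 := by
    unfold g at h1
    rw [inv_eq_one] at h1
    exact congrArg Subtype.val h1
  rw [h2] at hy
  have h3 : vecU ℚ U y ⟨i, h.1⟩ = vecU ℚ U x ⟨i, h.1⟩ := by
    rw [hy]; rfl
  have h4 : ((val y i : ℤ) : ℚ) = ((val x i : ℤ) : ℚ) := h3
  have h5 : val y i = val x i := by exact_mod_cast h4
  simp [h5] at hk

end Cfsg.Agent.H979.U33
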