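import Cfsg.Agent.H979.U33.WdA

/-!
# S5525, box D: relations of the words
-/

set_option autoImplicit false
set_option maxRecDepth 100000
set_option Elab.async false

namespace Cfsg.Agent.H979.U33

open Cfsg.Agent.BabyM.Conc Cfsg.Agent.BabyM.InstVec Cfsg.Agent.BabyM.TransInv
open Cfsg.Agent.H819.U33

theorem v5_five : g v5 ^ 5 = 1 := by
  rw [← g_pw, ← g_nil]
  exact eq_of (by decide +kernel)

end Cfsg.Agent.H979.U33
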