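import Cfsg.Agent.H979.U33.WdA

/-!
# S5525, box D: relations of the words
-/

set_option autoImplicit false
set_option maxRecDepth 100000
set_option Elab.async false

namespace Cfsg.Agent.H979.U33

open Cfsg.Agent.BabyM.Conc Cfsg.Agent.BabyM.InstVec Cfsg.Agent.BabyM.TransInv
open Cfsg.Agent.H819.U33

/-- `τ₂ = n₁⁻¹ τ n₁` -/
def wt2 : List Ltr := cj n1 [.tau]

theorem tau_tau2 : g [.tau] * g wt2 = g wt2 * g [.tau] := comm_of (by decide +kernel)

theorem n1_sq : g ([.tau] ++ n1 ++ n1) = g (n1 ++ n1 ++ winv [.tau]) := eq_of (by decide +kernel)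

end Cfsg.Agent.H979.U33
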