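import Cfsg.Agent.H979.U33.Local
import Cfsg.Agent.H979.U33.WdB
import Cfsg.Agent.H979.U33.WdC
import Cfsg.Agent.H979.U33.WdD
import Cfsg.Agent.H979.U33.WdE
import Cfsg.Agent.H819.U33.Trip

/-!
# S5525, box D: the 7-local part, from `|C(u)|` and the fusion of the elements of order 7 (helper979)
-/

set_option autoImplicit false

namespace Cfsg.Agent.H979.U33

open Subgroup Cfsg.Agent.BabyM.Conc Cfsg.Agent.BabyM.TransInv Cfsg.Agent.H819.U33

theorem cm3 {x y z : G} (h1 : x * z = z * x) (h2 : y * z = z * y) : (x * y) * z = z * (x * y) := Loc.cm h1 h2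

theorem n1_u : g n1 * g wu = g wu * g n1 := by
  unfold n1
  rw [g_append, g_append, g_append]
  exact cm3 (cm3 (cm3 z10_u wt_u) z10_u) wq_u

theorem n1_f : g n1 * g wf = g wf * g n1 := by
  unfold n1
  rw [g_append, g_append, g_append]
  exact cm3 (cm3 (cm3 z10_f wt_f) z10_f) wq_f

theorem taui_eq : g [.taui] = (g [.tau])⁻¹ := by
  rw [← g_winv]
  rfl

theorem taui_u : g [.taui] * g wu = g wu * g [.taui] := by
  rw [taui_eq]
  exact (show Commute _ _ from tau_u).inv_left.eq

theorem taui_f : g [.taui] * g wf = g wf * g [.taui] := by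
  rw [taui_eq]
  exact (show Commute _ _ from tau_f).inv_left.eq

theorem n2_u : g n2 * g wu = g wu * g n2 := by
  unfold n2
  simp only [g_append]
  exact cm3 (cm3 (cm3 (cm3 (cm3 (cm3 wt_u tau_u) z6_u) wq_u) taui_u) wt_u) z10_u

theorem n2_f : g n2 * g wf = g wf * g n2 := by
  unfold n2
  simp only [g_append]
  exact cm3 (cm3 (cm3 (cm3 (cm3 (cm3 wt_f tau_f) z6_f) wq_f) taui_f) wt_f) z10_f

theorem v5_u : g v5 * g wu = g wu * g v5 := by
  unfold v5
  rw [g_append, g_append, g_winv]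
  exact cm3 (cm3 tau_u wq_u) (show Commute _ _ from wt_u).inv_left.eq

theorem v7_f : g v7 * g wf = g wf * g v7 := by
  unfold v7
  rw [g_append, g_append]
  exact cm3 (cm3 tau_f wq_f) wt_f

theorem wt2_eq : g wt2 = (g n1)⁻¹ * g [.tau] * g n1 := g_cj _ _

/-- **the local data** -/
theorem loc (card : Nat.card (centralizer ({g wu} : Set G)) = 564480) :
    Loc (g wu) (g wf) (g [.tau]) (g wt2) (g n1) (g n2) where
  u7 := u_seven
  u1 := u_ne
  f3 := f_three
  fu := f_u
  t3 := tau3
  t1 := tau_ne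
  tu := tau_u
  tf := tau_f
  au := n1_u
  af := n1_f
  bu := n2_u
  bf := n2_f
  ht2 := wt2_eq
  a2 := by
    have h := n1_sq
    simp only [g_append, g_winv] at h
    rw [wt2_eq]
    calc (g n1)⁻¹ * ((g n1)⁻¹ * g [.tau] * g n1) * g n1 = (g n1)⁻¹ * (g n1)⁻¹ * (g [.tau] * g n1 * g n1) := by group
      _ = (g n1)⁻¹ * (g n1)⁻¹ * (g n1 * g n1 * (g [.tau])⁻¹) := by rw [h]
      _ = (g [.tau])⁻¹ := by group
  com := tau_tau2
  b1 := by
    have h := n2_tau
    simp only [g_append] at h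
    have h2 : g (cj n1 [.tau]) = g wt2 := rfl
    rw [h2] at h
    calc (g n2)⁻¹ * g [.tau] * g n2 = (g n2)⁻¹ * (g [.tau] * g n2) := by group
      _ = (g n2)⁻¹ * (g n2 * g [.tau] * g wt2) := by rw [h]
      _ = _ := by group
  card := card

theorem order_u : orderOf (g wu) = 7 := by
  have : Fact (Nat.Prime 7) := ⟨by norm_num⟩
  exact orderOf_eq_prime u_seven u_ne

theorem card_u0_of (H : Nat.card (centralizer ({g wu} : Set G)) = 564480 ∨
    Nat.card (centralizer ({g wu} : Set G)) = 75264) : Nat.card (centralizer ({g wu} : Set G)) = 564480 := by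
  rcases H with h | h
  · exact h
  · exfalso
    have : Fact (Nat.Prime 5) := ⟨by norm_num⟩
    have h3 : orderOf (g v5) = 5 := orderOf_eq_prime v5_five v5_ne
    have h4 := Subgroup.orderOf_dvd_natCard (centralizer ({g wu} : Set G)) (mem_centralizer_singleton_iff.2 v5_u)
    rw [h3, h] at h4
    omega

/-- the facts from the Monster -/
structure Mon : Prop where
  fin : Finite G
  seven : ∀ x y : G, orderOf x = 7 → orderOf y = 7 → IsConj x y
  card : ∀ x : G, orderOf x = 7 → Nat.card (centralizer ({x} : Set G)) = 564480 ∨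
    Nat.card (centralizer ({x} : Set G)) = 75264

section

variable (H : Mon)
include H

/-- **(D1)** -/
theorem Mon.card_u0 : Nat.card (centralizer ({g wu} : Set G)) = 564480 := card_u0_of (H.card _ order_u)

theorem Mon.exists_conj {u : G} (h7 : u ^ 7 = 1) (h1 : u ≠ 1) : ∃ k : G, k * u * k⁻¹ = g wu := by
  have : Fact (Nat.Prime 7) := ⟨by norm_num⟩
  exact isConj_iff.1 (H.seven u (g wu) (orderOf_eq_prime h7 h1) order_u)

/-- **(D3)** -/
theorem Mon.seven_pair {u y x : G} (h : Trip u y x) :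
    ∃ k : G, k * u * k⁻¹ = g wu ∧ (k * y * k⁻¹ = g wf ∨ k * y * k⁻¹ = g wf * g [.tau]) := by
  have := H.fin
  obtain ⟨k, hk⟩ := H.exists_conj h.u7 h.u1
  obtain ⟨m, hm, hmy⟩ := (loc H.card_u0).pair (y := k * y * k⁻¹) (by rw [conj_pow, h.y3]; group)
    (by
      rw [← hk]
      calc (k * y * k⁻¹)⁻¹ * (k * u * k⁻¹) * (k * y * k⁻¹) = k * (y⁻¹ * u * y) * k⁻¹ := by group
        _ = k * u ^ 2 * k⁻¹ := by rw [h.yu]
        _ = (k * u * k⁻¹) ^ 2 := by rw [conj_pow])
  refine ⟨m * k, ?_, ?_⟩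
  · calc m * k * u * (m * k)⁻¹ = m * (k * u * k⁻¹) * m⁻¹ := by group
      _ = g wu := by rw [hk, hm]
  · have e : m * k * y * (m * k)⁻¹ = m * (k * y * k⁻¹) * m⁻¹ := by group
    rw [e]
    exact hmy

/-- elements of order 3 commuting with an element of order 7 -/
theorem Mon.conj_tau {s v : G} (hs : orderOf s = 3) (hv : orderOf v = 7) (hc : s * v = v * s) :
    IsConj s (g [.tau]) := by
  have := H.fin
  obtain ⟨k, hk⟩ := isConj_iff.1 (H.seven v (g wu) hv order_u)
  have hs3 : s ^ 3 = 1 := by rw [← hs, pow_orderOf_eq_one]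
  have hs1 : s ≠ 1 := by
    rintro rfl
    rw [orderOf_one] at hs
    omega
  obtain ⟨m, hm⟩ := (loc H.card_u0).three_conj (s := k * s * k⁻¹) (by rw [conj_pow, hs3]; group)
    (by
      intro h1
      apply hs1
      calc s = k⁻¹ * (k * s * k⁻¹) * k := by group
        _ = 1 := by rw [h1]; group)
    (by
      rw [← hk]
      calc k * s * k⁻¹ * (k * v * k⁻¹) = k * (s * v) * k⁻¹ := by group
        _ = k * (v * s) * k⁻¹ := by rw [hc]
        _ = _ := by group)
  refine isConj_iff.2 ⟨m * k, ?_⟩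
  rw [← hm]
  group

/-- **(D4)** -/
theorem Mon.conj_f_of_seven {s v : G} (hs : orderOf s = 3) (hv : orderOf v = 7) (hc : s * v = v * s) :
    IsConj s (g wf) := by
  have i3 : Fact (Nat.Prime 3) := ⟨by norm_num⟩
  have i7 : Fact (Nat.Prime 7) := ⟨by norm_num⟩
  have hf : orderOf (g wf) = 3 := by
    refine orderOf_eq_prime f_three ?_
    intro h1
    have h2 := f_u
    rw [h1, inv_one, one_mul, mul_one] at h2
    apply u_ne
    calc g wu = (g wu)⁻¹ * g wu ^ 2 := by group
      _ = 1 := by rw [← h2]; group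
  have h7 : orderOf (g v7) = 7 := orderOf_eq_prime v7_seven v7_ne
  exact (H.conj_tau hs hv hc).trans (H.conj_tau hf h7 v7_f.symm).symm

/-- every element of order 3 of `C(u₀)` is conjugate to `τ` **(D2)** -/
theorem Mon.conj_of_comm {s : G} (hs : orderOf s = 3) (hc : s * g wu = g wu * s) : IsConj s (g wf) :=
  H.conj_f_of_seven hs order_u hc

end

end Cfsg.Agent.H979.U33
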