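import Cfsg.Agent.H979.U33.Ne

/-!
# S5525, box D: the words and their relations (words found by helper841)

`u₀ = g wu`, `f₀ = g wf`, `τ = g [.tau]`; `R = C(⟨u₀, f₀⟩)`.
-/

set_option autoImplicit false
set_option maxRecDepth 100000
set_option Elab.async false

namespace Cfsg.Agent.H979.U33

open Cfsg.Agent.BabyM.Conc Cfsg.Agent.BabyM.InstVec Cfsg.Agent.BabyM.TransInv
open Cfsg.Agent.H819.U33

/-- `t` -/
def wt : List Ltr := [.X1, .X3, .X4, .X5, .X7, .Z4, .Z9, .z, .y10, .p8, .h, .p9, .hi, .p3, .h, .xi, .p5, .h, .p6, .xii, .h, .p8, .h, .p2, .hi, .y4, .h, .y7, .p6, .xi, .y2, .y5, .y7, .h, .xii, .y6, .h, .xi, .p5, .xi, .y8, .p10, .xi, .y4, .p3, .hi, .p10, .y4, .p7, .y7, .xii, .p2, .xii, .p7, .xii, .tau, .xi, .p4, .xi, .p9, .xi, .y7, .p4, .y4, .p, .h, .p8, .y4, .xii, .p, .y8, .xii, .p6, .xii, .hi, .y6, .xi, .hi, .y7, .y5, .y2, .xii, .p5, .y7, .hi, .y4, .h, .p9, .hi, .p3, .hi, .xi, .p5, .hi, .p6, .xii, .hi, .p8,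 .h, .p2, .hi, .p3, .y10, .z, .Z9, .Z4, .X7, .X5, .X4, .X3, .X1]
/-- `q` -/
def wq : List Ltr := [.X0, .X1, .X5, .X6, .X8, .Z0, .Z1, .Z3, .Z4, .Z5, .Z7, .Z8]

/-- of order 5 -/
def v5 : List Ltr := [.tau] ++ wq ++ winv wt
/-- of order 7 -/
def v7 : List Ltr := [.tau] ++ wq ++ wt
def n1 : List Ltr := [.Z10] ++ wt ++ [.Z10] ++ wq
def n2 : List Ltr := wt ++ [.tau] ++ [.Z6] ++ wq ++ [.taui] ++ wt ++ [.Z10]

theorem u_ne : g wu ≠ 1 := ne_one (x := e0P) (i := 1281) (by decide +kernel)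
theorem tau_ne : g [.tau] ≠ 1 := ne_one (x := e0P) (i := 1281) (by decide +kernel)
theorem v5_ne : g v5 ≠ 1 := ne_one (x := e0P) (i := 1281) (by decide +kernel)
theorem v7_ne : g v7 ≠ 1 := ne_one (x := e0P) (i := 1281) (by decide +kernel)
theorem tau3 : g [.tau] ^ 3 = 1 := by
  rw [← g_pw, ← g_nil]
  exact eq_of (by decide +kernel)

theorem wt_u : g wt * g wu = g wu * g wt := comm_of (by decide +kernel)
theorem wt_f : g wt * g wf = g wf * g wt := comm_of (by decide +kernel)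
theorem wq_u : g wq * g wu = g wu * g wq := comm_of (by decide +kernel)
theorem wq_f : g wq * g wf = g wf * g wq := comm_of (by decide +kernel)
theorem z10_u : g [.Z10] * g wu = g wu * g [.Z10] := comm_of (by decide +kernel)
theorem z10_f : g [.Z10] * g wf = g wf * g [.Z10] := comm_of (by decide +kernel)
theorem z6_u : g [.Z6] * g wu = g wu * g [.Z6] := comm_of (by decide +kernel)
theorem z6_f : g [.Z6] * g wf = g wf * g [.Z6] := comm_of (by decide +kernel)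

end Cfsg.Agent.H979.U33
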